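import Mathlib
import Groth.Prelude.Def_CInt

/-!
# Morphisms agreeing on a schematically dense open
-/

set_option autoImplicit false

universe u

open CategoryTheory CategoryTheory.Limits AlgebraicGeometry

namespace Groth.Agent.SepLocIso

theorem app_injective_of_schDense {X : Scheme.{u}} {U : X.Opens} (hU : CInt.IsSchematicallyDense U) (V : X.Opens) :
    Function.Injective (U.ι.app V) := by
  intro a b h
  apply hU V
  have hle : V ⊓ U ≤ U.ι ''ᵁ U.ι ⁻¹ᵁ V := fun x hx => ⟨⟨x, hx.2⟩, hx.1, rfl⟩
  have key := congrArg (X.presheaf.map (homOfLE hle).op) h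
  have hc : U.ι.app V ≫ X.presheaf.map (homOfLE hle).op = X.presheaf.map (homOfLE inf_le_left).op := by
    rw [Scheme.Opens.ι_app]
    exact ((X.presheaf.map_comp _ _).symm : _)
  exact (congrArg (fun m => m.hom a) hc).symm.trans (key.trans (congrArg (fun m => m.hom b) hc))

theorem ker_ι_eq_bot {X : Scheme.{u}} {U : X.Opens} (hU : CInt.IsSchematicallyDense U) : U.ι.ker = ⊥ := by
  refine Scheme.IdealSheafData.ext (funext fun V => le_bot_iff.mp fun a ha => ?_)
  have h1 : a ∈ RingHom.ker (U.ι.app V.1).hom := Scheme.IdealSheafData.ideal_ofIdeals_le _ V ha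
  exact (Ideal.mem_bot).mpr (app_injective_of_schDense hU V.1 (h1.trans (map_zero _).symm))

theorem eq_of_schDense {X Y Z : Scheme.{u}} {U : X.Opens} (hU : CInt.IsSchematicallyDense U)
    (s : Y ⟶ Z) [IsSeparated s] (f g : X ⟶ Y) (hs : f ≫ s = g ≫ s) (h : U.ι ≫ f = U.ι ≫ g) : f = g := by
  let e := pullback.fst (pullback.lift f g hs) (pullback.diagonal s)
  have hfac : pullback.lift U.ι (U.ι ≫ f) (by
      apply pullback.hom_ext <;> simp [pullback.lift_fst, pullback.lift_snd, h]) ≫ e = U.ι := pullback.lift_fst _ _ _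
  have hker : e.ker = ⊥ := le_bot_iff.mp ((Scheme.Hom.le_ker_comp _ e).trans (by rw [hfac, ker_ι_eq_bot hU]))
  haveI : IsIso e := IsClosedImmersion.isIso_iff_ker_eq_bot.mpr hker
  have hc : e ≫ f = e ≫ g := by
    have := pullback.condition (f := pullback.lift f g hs) (g := pullback.diagonal s)
    have a := congr($this ≫ pullback.fst s s)
    have b := congr($this ≫ pullback.snd s s)
    simp only [Category.assoc, pullback.lift_fst, pullback.diagonal_fst, Category.comp_id] at a
    simp only [Category.assoc, pullback.lift_snd, pullback.diagonal_snd, Category.comp_id] at b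
    exact a.trans b.symm
  exact (cancel_epi e).mp hc

end Groth.Agent.SepLocIso
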