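import Mathlib

set_option autoImplicit false
universe u

open CategoryTheory CategoryTheory.Limits AlgebraicGeometry

namespace Groth.Agent.SepLocIso

lemma closure_singleton_mem_irreducibleComponents {X : Type u} [TopologicalSpace X] [QuasiSober X]
    [T0Space X] {ξ : X} (h : ∀ z : X, z ⤳ ξ → z = ξ) :
    closure ({ξ} : Set X) ∈ irreducibleComponents X := by
  refine ⟨isIrreducible_singleton.closure, fun s hs hle => ?_⟩
  have hc : ξ ∈ closure s := subset_closure (hle (subset_closure rfl))
  have := h hs.genericPoint (specializes_iff_mem_closure.mpr (by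
    rw [hs.genericPoint_closure_eq]; exact hc))
  intro z hz
  have hz' : z ∈ closure ({hs.genericPoint} : Set X) := by
    rw [hs.genericPoint_closure_eq]; exact subset_closure hz
  rwa [this] at hz'

lemma exists_max_specializes {X : Type u} [TopologicalSpace X] [QuasiSober X] [T0Space X] (y : X) :
    ∃ η : X, η ⤳ y ∧ ∀ z : X, z ⤳ η → z = η := by
  obtain ⟨Z, hZ, hyZ⟩ : ∃ Z ∈ irreducibleComponents X, y ∈ Z :=
    ⟨irreducibleComponent y, irreducibleComponent_mem_irreducibleComponents y, mem_irreducibleComponent⟩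
  have hc : IsClosed Z := isClosed_of_mem_irreducibleComponents Z hZ
  obtain ⟨η, hη⟩ := QuasiSober.sober hZ.1 hc
  refine ⟨η, hη.specializes hyZ, fun z hz => ?_⟩
  have hle : Z ⊆ closure ({z} : Set X) := by
    intro w hw
    exact specializes_iff_mem_closure.mp (hz.trans (hη.specializes hw))
  have := hZ.2 isIrreducible_singleton.closure hle
  exact (hη.specializes (this (subset_closure rfl))).antisymm hz |>.eq.symm

theorem apply_eq_of_eqOn_open {W X Y : Scheme.{u}} (f : X ⟶ Y) [IsSeparated f] (s s' : W ⟶ X)
    (h : s ≫ f = s' ≫ f) (W₁ : W.Opens) (h₁ : W₁.ι ≫ s = W₁.ι ≫ s') {η y : W}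
    (hη : η ∈ W₁) (hy : η ⤳ y) : s y = s' y := by
  let e := pullback.fst (pullback.lift s s' h) (pullback.diagonal f)
  have hcl : IsClosed (Set.range e) := e.isClosedEmbedding.isClosed_range
  have hfac : (pullback.lift W₁.ι (W₁.ι ≫ s) (by
      apply pullback.hom_ext <;> simp [pullback.lift_fst, pullback.lift_snd, h₁])) ≫ e = W₁.ι := pullback.lift_fst _ _ _
  have hη' : η ∈ Set.range e :=
    ⟨(pullback.lift W₁.ι (W₁.ι ≫ s) _) ⟨η, hη⟩, (congrArg (fun t => t.base ⟨η, hη⟩) hfac)⟩
  have : closure ({η} : Set W) ⊆ Set.range e := hcl.closure_subset_iff.mpr (by simpa using hη')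
  obtain ⟨p, hp⟩ := this (specializes_iff_mem_closure.mp hy)
  have hc : e ≫ s = e ≫ s' := by
    have := pullback.condition (f := pullback.lift s s' h) (g := pullback.diagonal f)
    have a := congr($this ≫ pullback.fst f f)
    have b := congr($this ≫ pullback.snd f f)
    simp only [Category.assoc, pullback.lift_fst, pullback.diagonal_fst, Category.comp_id] at a
    simp only [Category.assoc, pullback.lift_snd, pullback.diagonal_snd, Category.comp_id] at b
    exact a.trans b.symm
  rw [← hp, ← Scheme.Hom.comp_apply, hc, Scheme.Hom.comp_apply]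

end Groth.Agent.SepLocIso
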